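import Mathlib
import Cfsg.Agent.Lib.MultC.Model

/-! permutation model of degree 24: generators and a stabiliser chain (generated) -/

set_option autoImplicit false
set_option maxRecDepth 100000

namespace CfsgLib.MultC.M24

open CfsgLib.Comput CfsgLib.MultC

noncomputable def u0_0 : Net :=
  Net.cons 1 0x100050
  (Net.cons 2 0x311000
  (Net.cons 4 0x90900
  (Net.cons 8 192
  (Net.cons 16 218
  (Net.cons 8 56
  (Net.cons 4 0x4050c
  (Net.cons 2 0x30121
  (Net.cons 1 0x514144
  (Net.nil)))))))))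

noncomputable def u0_1 : Net :=
  Net.cons 1 0x54144
  (Net.cons 2 0x323130
  (Net.cons 4 0xc0800
  (Net.cons 8 69
  (Net.cons 16 247
  (Net.cons 8 241
  (Net.cons 4 0x60f0c
  (Net.cons 2 0x23113
  (Net.cons 1 0x144415
  (Net.nil)))))))))

noncomputable def u1_0 : Net :=
  Net.cons 1 80
  (Net.cons 4 0xa0400
  (Net.cons 8 75
  (Net.cons 16 95
  (Net.cons 8 245
  (Net.cons 4 0x10002
  (Net.cons 2 818
  (Net.cons 1 0x450444
  (Net.nil))))))))

noncomputable def u1_1 : Net :=
  Net.cons 1 0x10000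
  (Net.cons 2 0x20210
  (Net.cons 4 0xa00
  (Net.cons 8 41
  (Net.cons 16 235
  (Net.cons 8 253
  (Net.cons 4 0xf0e0e
  (Net.cons 2 0x231310
  (Net.cons 1 0x141154
  (Net.nil)))))))))

noncomputable def u2_0 : Net :=
  Net.cons 1 0x44000
  (Net.cons 2 0x10020
  (Net.cons 4 0x20e00
  (Net.cons 8 22
  (Net.cons 16 30
  (Net.cons 8 110
  (Net.cons 4 0x1040c
  (Net.cons 2 0x211200
  (Net.cons 1 0x1114
  (Net.nil)))))))))

noncomputable def u2_1 : Net :=
  Net.cons 1 0x505050
  (Net.cons 2 0x202120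
  (Net.cons 4 0x50000
  (Net.cons 8 106
  (Net.cons 16 122
  (Net.cons 8 46
  (Net.cons 4 0x9070c
  (Net.cons 2 0x20320
  (Net.cons 1 0x505550
  (Net.nil)))))))))

noncomputable def u3_0 : Net :=
  Net.cons 1 0x405400
  (Net.cons 2 288
  (Net.cons 4 0x80800
  (Net.cons 8 14
  (Net.cons 16 14
  (Net.cons 8 158
  (Net.cons 4 0x30108
  (Net.cons 2 0x131320
  (Net.cons 1 0x101110
  (Net.nil)))))))))

noncomputable def u3_1 : Net :=
  Net.cons 1 0x151140
  (Net.cons 2 0x332000
  (Net.cons 4 0xd0300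
  (Net.cons 8 4
  (Net.cons 16 180
  (Net.cons 8 244
  (Net.cons 4 0xa0208
  (Net.cons 2 0x312220
  (Net.cons 1 0x411040
  (Net.nil)))))))))

noncomputable def u4_0 : Net :=
  Net.cons 1 0x50400
  (Net.cons 2 0x332100
  (Net.cons 4 256
  (Net.cons 8 97
  (Net.cons 16 241
  (Net.cons 8 113
  (Net.cons 4 0x60c00
  (Net.cons 2 0x232210
  (Net.cons 1 0x514440
  (Net.nil)))))))))

noncomputable def u4_1 : Net :=
  Net.cons 1 0x110000
  (Net.cons 2 0x210200
  (Net.cons 4 0xb0400
  (Net.cons 8 13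
  (Net.cons 16 253
  (Net.cons 8 45
  (Net.cons 4 0xd0e00
  (Net.cons 2 0x133110
  (Net.cons 1 0x55050
  (Net.nil)))))))))

noncomputable def u5_0 : Net :=
  Net.cons 1 0x1000
  (Net.cons 2 0x220000
  (Net.cons 4 512
  (Net.cons 8 153
  (Net.cons 16 153
  (Net.cons 8 249
  (Net.cons 4 0x10300
  (Net.cons 2 0x220000
  (Net.cons 1 0x441000
  (Net.nil)))))))))

noncomputable def u5_1 : Net :=
  Net.cons 1 0x55540
  (Net.cons 2 0x322000
  (Net.cons 4 0x400
  (Net.cons 8 66
  (Net.cons 16 98
  (Net.cons 8 130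
  (Net.cons 4 0x70d00
  (Net.cons 2 0x113200
  (Net.cons 1 0x545100
  (Net.nil)))))))))

noncomputable def u5_2 : Net :=
  Net.cons 1 0x455440
  (Net.cons 2 0x122000
  (Net.cons 4 0x10800
  (Net.cons 8 22
  (Net.cons 16 182
  (Net.cons 8 246
  (Net.cons 4 0xf0200
  (Net.cons 2 0x103000
  (Net.cons 1 0x440500
  (Net.nil)))))))))

noncomputable def u6_0 : Net :=
  Net.cons 1 0x505400
  (Net.cons 2 0x111000
  (Net.cons 4 0x60800
  (Net.cons 8 26
  (Net.cons 16 90
  (Net.cons 8 154
  (Net.cons 4 0x600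
  (Net.cons 2 0x333300
  (Net.cons 1 0x141400
  (Net.nil)))))))))

noncomputable def V0 : List Net := [u0_0, u0_1]
noncomputable def U0 : List Net := (V0 ++ revL V0)
noncomputable def V1 : List Net := [u1_0, u1_1]
noncomputable def U1 : List Net := U0 ++ (V1 ++ revL V1)
noncomputable def V2 : List Net := [u2_0, u2_1]
noncomputable def U2 : List Net := U1 ++ (V2 ++ revL V2)
noncomputable def V3 : List Net := [u3_0, u3_1]
noncomputable def U3 : List Net := U2 ++ (V3 ++ revL V3)
noncomputable def V4 : List Net := [u4_0, u4_1]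
noncomputable def U4 : List Net := U3 ++ (V4 ++ revL V4)
noncomputable def V5 : List Net := [u5_0, u5_1, u5_2]
noncomputable def U5 : List Net := U4 ++ (V5 ++ revL V5)
noncomputable def V6 : List Net := [u6_0]
noncomputable def U6 : List Net := U5 ++ (V6 ++ revL V6)
noncomputable def U : List Net := U6

theorem v1 : wordsOK 24 5 U0 V1 [[0x3020101020304], [0x3040101010102030201]] = true := by decide +kernel
theorem v2 : wordsOK 24 5 U1 V2 [[0x808070805080807080508], [0x706060607080508]] = true := by decide +kernel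
theorem v3 : wordsOK 24 5 U2 V3 [[0x9090a0b0a090c], [0xc0b0b0a0909]] = true := by decide +kernel
theorem v4 : wordsOK 24 5 U3 V4 [[0x10100d10100f0e0d], [0xd0e0f0e0f10100f0e]] = true := by decide +kernel
theorem v5 : wordsOK 24 5 U4 V5 [[0x11141112121312], [0x13121211141114131213], [0x141114131312131213]] = true := by decide +kernel
theorem v6 : wordsOK 24 5 U5 V6 [[0x181a161a1517]] = true := by decide +kernel

theorem realU {G Ω : Type*} [Group G] [MulAction G Ω] {pt : ℕ → Ω} (h : AllReal G 24 pt V0) :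
    AllReal G 24 pt U := by
  have h0 : AllReal G 24 pt U0 := h.append h.rev
  have k1 : AllReal G 24 pt V1 := h0.words (by norm_num) v1
  have h1 : AllReal G 24 pt U1 := h0.append (k1.append k1.rev)
  have k2 : AllReal G 24 pt V2 := h1.words (by norm_num) v2
  have h2 : AllReal G 24 pt U2 := h1.append (k2.append k2.rev)
  have k3 : AllReal G 24 pt V3 := h2.words (by norm_num) v3
  have h3 : AllReal G 24 pt U3 := h2.append (k3.append k3.rev)
  have k4 : AllReal G 24 pt V4 := h3.words (by norm_num) v4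
  have h4 : AllReal G 24 pt U4 := h3.append (k4.append k4.rev)
  have k5 : AllReal G 24 pt V5 := h4.words (by norm_num) v5
  have h5 : AllReal G 24 pt U5 := h4.append (k5.append k5.rev)
  have k6 : AllReal G 24 pt V6 := h5.words (by norm_num) v6
  have h6 : AllReal G 24 pt U6 := h5.append (k6.append k6.rev)
  exact h6

end CfsgLib.MultC.M24
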