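import Mathlib
import Cfsg.Agent.Lib.MultC.Out

/-! generated certificate -/

set_option autoImplicit false
set_option maxRecDepth 100000
set_option Elab.async false

namespace CfsgLib.MultC.M24.O

open CfsgLib.Comput CfsgLib.MultC

noncomputable def u0_0 : Net :=
  Net.cons 1 0x400514
  (Net.cons 2 0x10000
  (Net.cons 4 0xd0b00
  (Net.cons 8 30
  (Net.cons 16 127
  (Net.cons 8 39
  (Net.cons 4 0x80f01
  (Net.cons 2 0x202301
  (Net.cons 1 0x55044
  (Net.nil)))))))))

noncomputable def u0_1 : Net :=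
  Net.cons 1 0x140150
  (Net.cons 2 0x302100
  (Net.cons 4 0x60100
  (Net.cons 8 132
  (Net.cons 16 236
  (Net.cons 8 248
  (Net.cons 4 0x50008
  (Net.cons 2 0x2130
  (Net.cons 1 0x155050
  (Net.nil)))))))))

noncomputable def u0_2 : Net :=
  Net.cons 1 0x144010
  (Net.cons 2 0x203000
  (Net.cons 4 0x50500
  (Net.cons 8 67
  (Net.cons 16 103
  (Net.cons 8 251
  (Net.cons 4 524
  (Net.cons 2 0x221330
  (Net.cons 1 0x45001
  (Net.nil)))))))))

noncomputable def u1_0 : Net :=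
  Net.cons 1 0x555400
  (Net.cons 2 256
  (Net.cons 8 152
  (Net.cons 16 155
  (Net.cons 8 156
  (Net.cons 4 0xd0a05
  (Net.cons 2 0x113202
  (Net.cons 1 0x441404
  (Net.nil))))))))

noncomputable def u1_1 : Net :=
  Net.cons 1 0x114550
  (Net.cons 2 0x200100
  (Net.cons 4 0x20a00
  (Net.cons 8 214
  (Net.cons 16 214
  (Net.cons 8 250
  (Net.cons 4 0x2040a
  (Net.cons 2 0x13000
  (Net.cons 1 0x410545
  (Net.nil)))))))))

noncomputable def u2_0 : Net :=
  Net.cons 1 0x410140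
  (Net.cons 2 0x233330
  (Net.cons 4 0x40200
  (Net.cons 8 8
  (Net.cons 16 44
  (Net.cons 8 75
  (Net.cons 4 0x50506
  (Net.cons 2 0x333033
  (Net.cons 1 0x111544
  (Net.nil)))))))))

noncomputable def u2_1 : Net :=
  Net.cons 1 0x45010
  (Net.cons 2 0x23000
  (Net.cons 4 0x40d00
  (Net.cons 8 180
  (Net.cons 16 188
  (Net.cons 8 253
  (Net.cons 4 0x40005
  (Net.cons 2 0x100200
  (Net.cons 1 0x440005
  (Net.nil)))))))))

noncomputable def u3_0 : Net :=
  Net.cons 1 0x410540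
  (Net.cons 2 0x302100
  (Net.cons 4 0xf0000
  (Net.cons 8 12
  (Net.cons 16 45
  (Net.cons 8 158
  (Net.cons 4 0x90809
  (Net.cons 2 0x102023
  (Net.cons 1 0x500440
  (Net.nil)))))))))

noncomputable def u3_1 : Net :=
  Net.cons 1 0x404154
  (Net.cons 2 0x11200
  (Net.cons 4 0x10d00
  (Net.cons 8 18
  (Net.cons 16 18
  (Net.cons 8 134
  (Net.cons 4 0x70102
  (Net.cons 2 0x11202
  (Net.cons 1 0x4154
  (Net.nil)))))))))

noncomputable def u4_0 : Net :=
  Net.cons 1 0x401100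
  (Net.cons 2 0x12200
  (Net.cons 4 0x90900
  (Net.cons 8 16
  (Net.cons 16 56
  (Net.cons 8 27
  (Net.cons 4 0xc0900
  (Net.cons 2 0x103200
  (Net.cons 1 0x411510
  (Net.nil)))))))))

noncomputable def u4_1 : Net :=
  Net.cons 1 0x445500
  (Net.cons 2 0x110130
  (Net.cons 4 0xb0900
  (Net.cons 8 32
  (Net.cons 16 41
  (Net.cons 8 163
  (Net.cons 4 0x70804
  (Net.cons 2 0x332233
  (Net.cons 1 0x155410
  (Net.nil)))))))))

noncomputable def u5_0 : Net :=
  Net.cons 1 0x440000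
  (Net.cons 2 0x220020
  (Net.cons 4 0x50300
  (Net.cons 8 32
  (Net.cons 16 182
  (Net.cons 8 39
  (Net.cons 4 0xe0000
  (Net.cons 2 0x220221
  (Net.cons 1 0x41001
  (Net.nil)))))))))

noncomputable def u5_1 : Net :=
  Net.cons 1 0x551104
  (Net.cons 2 0x113100
  (Net.cons 4 0x80a00
  (Net.cons 8 52
  (Net.cons 16 62
  (Net.cons 8 45
  (Net.cons 4 0xc0e01
  (Net.cons 2 0x32200
  (Net.cons 1 0x551104
  (Net.nil)))))))))

noncomputable def u5_2 : Net :=
  Net.cons 1 0x1100
  (Net.cons 2 0x130230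
  (Net.cons 4 0xb0a00
  (Net.cons 8 151
  (Net.cons 16 215
  (Net.cons 8 16
  (Net.cons 4 0x20e00
  (Net.cons 2 0x231331
  (Net.cons 1 0x500110
  (Net.nil)))))))))

noncomputable def u6_0 : Net :=
  Net.cons 1 0x114000
  (Net.cons 2 0x211000
  (Net.cons 4 0x10400
  (Net.cons 8 96
  (Net.cons 16 103
  (Net.cons 8 100
  (Net.cons 4 0x50803
  (Net.cons 2 0x11300
  (Net.cons 1 0x114000
  (Net.nil)))))))))

noncomputable def u7_0 : Net :=
  Net.cons 1 0x105010
  (Net.cons 2 512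
  (Net.cons 4 0x20000
  (Net.cons 8 4
  (Net.cons 16 236
  (Net.cons 8 169
  (Net.cons 4 0xc0903
  (Net.cons 2 0x303030
  (Net.cons 1 0x144510
  (Net.nil)))))))))

noncomputable def s0_0 : ℕ := 0xffffff
noncomputable def s5_0 : ℕ := 0x4890cc
noncomputable def V0 : List Net := [u0_0, u0_1, u0_2]
noncomputable def U0 : List Net := (V0 ++ revL V0)
noncomputable def V1 : List Net := [u1_0, u1_1]
noncomputable def U1 : List Net := U0 ++ (V1 ++ revL V1)
noncomputable def V2 : List Net := [u2_0, u2_1]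
noncomputable def U2 : List Net := U1 ++ (V2 ++ revL V2)
noncomputable def V3 : List Net := [u3_0, u3_1]
noncomputable def U3 : List Net := U2 ++ (V3 ++ revL V3)
noncomputable def V4 : List Net := [u4_0, u4_1]
noncomputable def U4 : List Net := U3 ++ (V4 ++ revL V4)
noncomputable def V5 : List Net := [u5_0, u5_1, u5_2]
noncomputable def U5 : List Net := U4 ++ (V5 ++ revL V5)
noncomputable def V6 : List Net := [u6_0]
noncomputable def U6 : List Net := U5 ++ (V6 ++ revL V6)
noncomputable def V7 : List Net := [u7_0]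
noncomputable def U7 : List Net := U6 ++ (V7 ++ revL V7)
noncomputable def Wr : List Net := (((((((revL V0) ++ (V1 ++ revL V1)) ++ (V2 ++ revL V2)) ++ (V3 ++ revL V3)) ++ (V4 ++ revL V4)) ++ (V5 ++ revL V5)) ++ (V6 ++ revL V6)) ++ (V7 ++ revL V7)
noncomputable def W : List Net := u0_0 :: u0_1 :: u0_2 :: Wr

noncomputable def lev6 : Lev := (11, 1, [28, 29], 0x30000000, [])
noncomputable def L6 : List Lev := lev6 :: []
noncomputable def lev5 : Lev := (18, 1, [22, 23, 24, 25, 26, 27], 0x3fc00000, [s5_0])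
noncomputable def L5 : List Lev := lev5 :: L6
noncomputable def lev4 : Lev := (3, 2, [18, 19, 20, 21], 0x3ffc0000, [])
noncomputable def L4 : List Lev := lev4 :: L5
noncomputable def lev3 : Lev := (6, 3, [14, 15, 16, 17], 0x3fffc000, [])
noncomputable def L3 : List Lev := lev3 :: L4
noncomputable def lev2 : Lev := (15, 2, [10, 11, 12, 13], 0x3ffffc00, [])
noncomputable def L2 : List Lev := lev2 :: L3
noncomputable def lev1 : Lev := (19, 3, [6, 7, 8, 9], 0x3fffffc0, [])
noncomputable def L1 : List Lev := lev1 :: L2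
noncomputable def lev0 : Lev := (7, 2, [0, 1, 2, 3, 4, 5], 0x3fffffff, [s0_0])
noncomputable def L0 : List Lev := lev0 :: L1
noncomputable def D : OD where
  r := 23
  u := 1
  J := [1, 22]
  K := [0, 0, 10, 3, 9, 5, 2, 7, 8, 6, 4, 1, 1, 4, 6, 8, 7, 2, 5, 9, 3, 10, 0]
  wl := 2
  wt := 0x202
  m := 11
  V := [0]
  pa := [1, 4]
  pl := [0, 2, 0x202, 0x20202, 0x2020202, 0x202020202, 0x505050505, 0x5050505, 0x50505, 0x505, 5]
  R := [(0x3030101, 5)]
  P := [7]
  S := [0]
noncomputable def ma : List (ℕ × ℕ) := [(30, 1), (31, 22)]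
noncomputable def ml : List (ℕ × ℕ) := [(1, 1), (4, 10)]

end CfsgLib.MultC.M24.O
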